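import Groth.Agent.Lib.OX.DQCohBrown
import Groth.Agent.Lib.OX.Adjunction
import Groth.Agent.Lib.OX.LocFreeHomVanish
import Groth.Agent.Lib.OX.HomTri
import Groth.Agent.Lib.OX.PerfectCriterion

/-! # Perfect complexes detect isomorphisms of `D_qc` -/

set_option autoImplicit false
set_option maxHeartbeats 1000000
universe u

open CategoryTheory CategoryTheory.Limits CategoryTheory.Pretriangulated AlgebraicGeometry HomologicalComplex GrothLib.OX

attribute [local instance] HasDerivedCategory.standard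

namespace GrothLib.Detect22

variable {X Y : Scheme.{u}}

/-- Perfect complexes detect isomorphisms. -/
theorem isIso_of_perfect_hom [CompactSpace X] [QuasiSeparatedSpace X] {F G : DCoh.D X} (hF : DCoh.IsQCohD F)
    (hG : DCoh.IsQCohD G) (φ : F ⟶ G)
    (h : ∀ P : DCoh.D X, DCoh.IsPerfect P → Function.Bijective fun a : P ⟶ F => a ≫ φ) : IsIso φ := by
  obtain ⟨C, g, d, hT⟩ := distinguished_cocone_triangle φ
  have hC : DCoh.IsQCohD C := isQCohD_obj₃ hT hF hG
  suffices hz : IsZero C from (Triangle.isZero₃_iff_isIso₁ _ hT).1 hz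
  obtain ⟨P, hP, -, hgen⟩ := hasGen_of_qcqs X ⊥ isCompact_empty
  refine hgen C hC (isZero_of_support_empty fun q => Set.eq_empty_of_forall_notMem fun x _ => x.2.elim) fun n f => ?_
  have hPn : DCoh.IsPerfect (P⟦n⟧) := isPerfect_shift hP n
  have h1 : f ≫ d = 0 := by
    have h2 : (f ≫ d) ≫ φ⟦(1 : ℤ)⟧' = 0 := by
      rw [Category.assoc, show d ≫ φ⟦(1 : ℤ)⟧' = 0 from comp_distTriang_mor_zero₃₁ _ hT, comp_zero]
    let e := (shiftEquiv (DCoh.D X) (1 : ℤ)).toAdjunction
    let Q' := (shiftFunctor (DCoh.D X) (-1 : ℤ)).obj (P⟦n⟧)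
    let i : (shiftFunctor (DCoh.D X) (1 : ℤ)).obj Q' ≅ P⟦n⟧ :=
      (shiftFunctorCompIsoId (DCoh.D X) (-1) 1 (neg_add_cancel 1)).app _
    obtain ⟨a, ha⟩ : ∃ a : Q' ⟶ F, a⟦(1 : ℤ)⟧' = i.hom ≫ f ≫ d :=
      (shiftFunctor (DCoh.D X) (1 : ℤ)).map_surjective _
    have : a = 0 := (h Q' (isPerfect_shift hPn _)).1 (by
      show a ≫ φ = (0 : Q' ⟶ F) ≫ φ
      rw [zero_comp]
      apply (shiftFunctor (DCoh.D X) (1 : ℤ)).map_injective
      rw [Functor.map_comp, Functor.map_zero, ha, Category.assoc, h2, comp_zero])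
    rw [this, Functor.map_zero] at ha
    rw [← cancel_epi i.hom, comp_zero]
    exact ha.symm
  obtain ⟨b, hb⟩ := Triangle.coyoneda_exact₃ _ hT f h1
  obtain ⟨a, rfl⟩ := (h _ hPn).2 b
  rw [hb]
  exact (Category.assoc a φ g).trans (by rw [show φ ≫ g = 0 from comp_distTriang_mor_zero₁₂ _ hT, comp_zero])

/-- The derived pullback of the structure sheaf. -/
theorem nonempty_lpull_unit (f : X ⟶ Y) [DCoh.HasLpull f] :
    Nonempty ((DCoh.Lpull f).obj (DerivedCategory.Q.obj (unitCx Y)) ≅ DerivedCategory.Q.obj (unitCx X)) := by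
  have hQ : kFlatP ((HomotopyCategory.quotient Y.Modules (ComplexShape.up ℤ)).obj (unitCx Y)) :=
    isKFlat_single _ (flat_structureModule _) 0
  let α := (DCoh.pullKh f).totalLeftDerivedCounit DerivedCategory.Qh
    (HomotopyCategory.quasiIso Y.Modules (ComplexShape.up ℤ))
  haveI := (pullKh_resolvable f).isIso_app_of_isLeftDerivedFunctor _ α hQ
  exact ⟨(DCoh.Lpull f).mapIso ((DerivedCategory.quotientCompQhIso Y.Modules).app (unitCx Y)).symm ≪≫
    asIso (α.app ((HomotopyCategory.quotient _ _).obj (unitCx Y))) ≪≫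
    DerivedCategory.Qh.mapIso (((Scheme.Modules.pullback f).mapHomotopyCategoryFactors _).app (unitCx Y)) ≪≫
    (DerivedCategory.quotientCompQhIso X.Modules).app _ ≪≫
    DerivedCategory.Q.mapIso
      ((singleMapHomologicalComplex (Scheme.Modules.pullback f) (ComplexShape.up ℤ) 0).app _ ≪≫
        (single _ _ 0).mapIso (pullUnitIso f))⟩

/-- Maps out of `E` are maps out of the structure sheaf into the internal Hom. -/
theorem nonempty_ltensor_unit (E : CochainComplex X.Modules ℤ) [DCoh.HasLTensorCx E] :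
    Nonempty (DerivedCategory.Q.obj E ≅ (DCoh.LTensorCx E).obj (DerivedCategory.Q.obj (unitCx X))) := by
  obtain ⟨v⟩ := ltensorCx_value E (unitCx X) (isKFlat_single _ (flat_structureModule _) 0)
  exact ⟨DerivedCategory.Q.mapIso ((singleUnitNatIso (X := X)).app E).symm ≪≫
    DerivedCategory.Q.mapIso ((tensorFlipIso (unitCx X)).app E) ≪≫ v.symm⟩

/-- If `Rf_* RHom(E, φ)` is an isomorphism then `φ` induces a bijection on maps out of `E`. -/
theorem bijective_hom_of_rpush (f : X ⟶ Y) [DCoh.HasRpush f] {F G : DCoh.D X} (φ : F ⟶ G)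
    (E : CochainComplex X.Modules ℤ) [DCoh.HasLTensorCx E] [DCoh.HasRSheafHom E]
    (h : IsIso ((DCoh.Rpush f).map ((DCoh.RSheafHom E).map φ))) {P : DCoh.D X}
    (e : DerivedCategory.Q.obj E ≅ P) : Function.Bijective fun a : P ⟶ F => a ≫ φ := by
  haveI := GrothLib.OX.hasLpull f
  obtain ⟨adj⟩ := nonempty_lpullAdj f
  obtain ⟨l⟩ := nonempty_lpull_unit f
  obtain ⟨t⟩ := nonempty_ltensor_unit E
  let i : (DCoh.LTensorCx E).obj ((DCoh.Lpull f).obj (DerivedCategory.Q.obj (unitCx Y))) ≅ P :=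
    (DCoh.LTensorCx E).mapIso l ≪≫ t.symm ≪≫ e
  let A := adj.comp (DCoh.RSheafHomAdj E)
  let Φ := fun Z : DCoh.D X => (Iso.homFromEquiv i.symm (Z := Z)).trans (A.homEquiv (DerivedCategory.Q.obj (unitCx Y)) Z)
  have hnat : ∀ a, (Φ G) (a ≫ φ) = (Φ F) a ≫ (DCoh.Rpush f).map ((DCoh.RSheafHom E).map φ) := fun a => by
    simp only [Φ, Equiv.trans_apply, Iso.homFromEquiv_apply]
    rw [← Category.assoc, A.homEquiv_naturality_right]
    rfl
  constructor
  · intro a b hab
    apply (Φ F).injective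
    rw [← cancel_mono ((DCoh.Rpush f).map ((DCoh.RSheafHom E).map φ)), ← hnat, ← hnat]
    exact congrArg (Φ G) hab
  · intro b
    refine ⟨(Φ F).symm ((Φ G) b ≫ inv ((DCoh.Rpush f).map ((DCoh.RSheafHom E).map φ))), (Φ G).injective ?_⟩
    rw [hnat, Equiv.apply_symm_apply, Category.assoc, IsIso.inv_hom_id, Category.comp_id]

end GrothLib.Detect22
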